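import Cfsg.Agent.H912.LSUse
import Cfsg.Prelude.Def_GeometricClasses

/-!
# S3499: lower bounds for the dimension from the Landazuri-Seitz predicate (helper433)

`le_card_of_ls` : `P ≤ GL(ι, F)` perfect, `P` modulo scalars `≅ T`, `LS r d T`, `(r : F) ≠ 0` : `d ≤ |ι|`;
`le_card_of_core` : the same for a residual core (`Geo.IsResidualCore H P`);
`le_card_of_two` : two bounds for different primes cover all characteristics.
-/

set_option autoImplicit false

universe u v

namespace Cfsg.Agent.H433.EP

open Subgroup Cfsg.Agent.H203.LS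

theorem le_card_of_ls {F : Type u} [Field F] [Finite F] {ι : Type} [Fintype ι] [DecidableEq ι] {r d : ℕ} {T : Type v}
    [Group T] [Nontrivial T] (h : LS.{v, u, u} r d T) (hrF : (r : F) ≠ 0) (P : Subgroup (Matrix.GeneralLinearGroup ι F))
    (hP : ⁅P, P⁆ = P) (e : Nonempty ((P ⧸ (Cfsg.Geo.scalars ι F).subgroupOf P) ≃* T)) : d ≤ Fintype.card ι := by
  obtain ⟨e⟩ := e
  have hfin : Finite (Matrix.GeneralLinearGroup ι F) := inferInstance
  have hk := Cfsg.Agent.H912.Bd.ker_comp_mk ((Cfsg.Geo.scalars ι F).subgroupOf P) e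
  let E : Matrix.GeneralLinearGroup ι F →* Matrix.GeneralLinearGroup (Fin (Fintype.card ι)) F :=
    Units.map ((Matrix.reindexAlgEquiv F F (Fintype.equivFin ι) : Matrix ι ι F ≃ₐ[F] _) : Matrix ι ι F →* _)
  have hE : Function.Injective E := Units.map_injective (Matrix.reindexAlgEquiv F F (Fintype.equivFin ι)).injective
  refine h P (e.toMonoidHom.comp (QuotientGroup.mk' _))
    (e.surjective.comp (QuotientGroup.mk'_surjective ((Cfsg.Geo.scalars ι F).subgroupOf P))) ?_
    (Cfsg.Agent.H912.Bd.commutator_eq_top hP) F hrF _ (E.comp P.subtype) ?_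
  · rw [hk]
    intro x hx
    rw [Subgroup.mem_center_iff]
    intro y
    have hx' : (x : Matrix.GeneralLinearGroup ι F) ∈ Cfsg.Geo.scalars ι F := Subgroup.mem_subgroupOf.1 hx
    obtain ⟨c, hc⟩ := (Cfsg.Geo.mem_scalars_iff _).1 hx'
    apply Subtype.ext
    apply Units.ext
    show ((y : Matrix.GeneralLinearGroup ι F) : Matrix ι ι F) * ((x : Matrix.GeneralLinearGroup ι F) : Matrix ι ι F) =
      ((x : Matrix.GeneralLinearGroup ι F) : Matrix ι ι F) * ((y : Matrix.GeneralLinearGroup ι F) : Matrix ι ι F)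
    rw [hc, Matrix.smul_mul, Matrix.mul_smul, one_mul, mul_one]
  · intro h1
    obtain ⟨t, ht⟩ := exists_ne (1 : T)
    obtain ⟨x, hx⟩ := (e.surjective.comp (QuotientGroup.mk'_surjective
      ((Cfsg.Geo.scalars ι F).subgroupOf P))) t
    apply ht
    rw [← hx]
    have hx1 : x = 1 := by
      have := DFunLike.congr_fun h1 x
      apply Subtype.ext
      apply hE
      exact this.trans (map_one E).symm
    rw [hx1, Function.comp_apply, map_one, map_one]

/-- the form for a residual core -/
theorem le_card_of_core {F : Type u} [Field F] [Finite F] {ι : Type} [Fintype ι] [DecidableEq ι] {r d : ℕ} {T : Type v}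
    [Group T] (h : LS.{v, u, u} r d T) (hrF : (r : F) ≠ 0) {H P : Subgroup (Matrix.GeneralLinearGroup ι F)}
    (hP : Cfsg.Geo.IsResidualCore H P) (e : Nonempty ((P ⧸ (Cfsg.Geo.scalars ι F).subgroupOf P) ≃* T)) :
    d ≤ Fintype.card ι := by
  have hnt : Nontrivial T := by
    have := hP.simple.toNontrivial
    obtain ⟨e⟩ := e
    exact e.symm.toEquiv.nontrivial
  exact le_card_of_ls h hrF P hP.perfect e

/-- two bounds for different primes: no condition on the characteristic -/
theorem le_card_of_two {F : Type u} [Field F] [Finite F] {ι : Type} [Fintype ι] [DecidableEq ι] {r s d : ℕ} {T : Type v}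
    [Group T] (hrs : r.Coprime s) (h : LS.{v, u, u} r d T) (h' : LS.{v, u, u} s d T)
    {H P : Subgroup (Matrix.GeneralLinearGroup ι F)} (hP : Cfsg.Geo.IsResidualCore H P)
    (e : Nonempty ((P ⧸ (Cfsg.Geo.scalars ι F).subgroupOf P) ≃* T)) : d ≤ Fintype.card ι := by
  by_cases hr : (r : F) = 0
  · refine le_card_of_core h' (fun hs => ?_) hP e
    have h1 : ((r.gcd s : ℕ) : F) = 0 := by
      have := Nat.gcd_eq_gcd_ab r s
      have h2 : (((r.gcd s : ℕ) : ℤ) : F) = (((r : ℤ) * r.gcdA s + (s : ℤ) * r.gcdB s : ℤ) : F) := by rw [this]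
      push_cast at h2
      rw [hr, hs, zero_mul, zero_mul, add_zero] at h2
      exact h2
    rw [hrs, Nat.cast_one] at h1
    exact one_ne_zero h1
  · exact le_card_of_core h hr hP e

end Cfsg.Agent.H433.EP
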