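import Cfsg.Agent.H95.LSx.O73
import Cfsg.Agent.S0292
import Cfsg.Agent.S1686
import Cfsg.Agent.S1688
import Cfsg.Agent.S1696
import Cfsg.Agent.S1697
import Cfsg.Agent.S2079
import Cfsg.Agent.S2080
import Cfsg.Agent.H419.EP.Big
import Cfsg.Agent.H433.EP.LSn
import Cfsg.Agent.H762.EPV.UBThree
import Cfsg.Agent.H806.LsFiTwo

/-!
# `LS 3 26` for `Fi₂₂` and `Fi₂₃` (helper433)

`Fi₂₂` contains `Ω₇(3)`, `Fi₂₃` contains `2.Fi₂₂`. Rows `Fi₂₂` and `Fi₂₃` of part V of S3499.
-/

set_option autoImplicit false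
set_option linter.unusedSectionVars false
set_option exponentiation.threshold 400

universe v w

namespace Cfsg.Agent.H433.EP

open Subgroup Cfsg.Agent.H203.LS Cfsg.Agent.H95.LSx

theorem commutator_top_of_simple {G : Type*} [Group G] [IsSimpleGroup G] (h : ¬ ∀ a b : G, a * b = b * a) :
    commutator G = ⊤ := by
  rcases (inferInstance : (commutator G).Normal).eq_bot_or_eq_top with h1 | h1
  · exfalso
    apply h
    intro a b
    have h2 : a * b * a⁻¹ * b⁻¹ ∈ commutator G := commutator_mem_commutator (mem_top a) (mem_top b)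
    rw [h1, mem_bot, mul_inv_eq_one, mul_inv_eq_iff_eq_mul] at h2
    exact h2
  · exact h1

theorem not_comm_of_card {G : Type*} [Group G] [Finite G] [IsSimpleGroup G] {n : ℕ} (hn : Nat.card G = n)
    (h : ¬ n.Prime) : ¬ ∀ a b : G, a * b = b * a := by
  intro hc
  let _ : CommGroup G := { (inferInstance : Group G) with mul_comm := hc }
  apply h
  rw [← hn]
  exact IsSimpleGroup.prime_card

/-- from simple subgroups -/
theorem ls_of_subgroup {r d : ℕ} {T : Type} [Group T] [Finite T] [IsSimpleGroup T] (K : Subgroup T) {L : Type} [Group L]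
    [IsSimpleGroup L] (hL : commutator L = ⊤) (e : K ≃* L) (h : LS.{0, v, w} r d L) : LS.{0, v, w} r d T := by
  have : Finite L := Finite.of_equiv _ e.toEquiv
  exact LS.of_sub hL (K.subtype.comp e.symm.toMonoidHom) (K.subtype_injective.comp e.symm.injective) h

/-- from subgroups which are central extensions -/
theorem ls_of_cover {r d : ℕ} {T : Type} [Group T] [Finite T] [IsSimpleGroup T] (K : Subgroup T) {L : Type} [Group L]
    [Nontrivial L] (hL : commutator L = ⊤) (e : K ⧸ center K ≃* L) (h : LS.{0, v, w} r d L) : LS.{0, v, w} r d T := by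
  refine LS.of_hom_center hL (e.toMonoidHom.comp (QuotientGroup.mk' (center K)))
    (e.surjective.comp (QuotientGroup.mk'_surjective _)) ?_ K.subtype ?_ h
  · intro x hx
    have h1 : e (QuotientGroup.mk x) = 1 := hx
    rw [map_eq_one_iff e e.injective, QuotientGroup.eq_one_iff] at h1
    exact h1
  · rw [K.ker_subtype]
    exact bot_le

instance simple22 : IsSimpleGroup Cfsg.Spor.Fi22 := Cfsg.Agent.S1696.result.1

theorem card22 : Nat.card Cfsg.Spor.Fi22 = 64561751654400 := Cfsg.Agent.S1696.result.2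

instance simple23 : IsSimpleGroup Cfsg.Spor.Fi23 := Cfsg.Agent.S1697.result.1

theorem card23 : Nat.card Cfsg.Spor.Fi23 = 4089470473293004800 := Cfsg.Agent.S1697.result.2

instance finite22 : Finite Cfsg.Spor.Fi22 := Nat.finite_of_card_ne_zero (by rw [card22]; norm_num)

instance finite23 : Finite Cfsg.Spor.Fi23 := Nat.finite_of_card_ne_zero (by rw [card23]; norm_num)

theorem comm22 : commutator Cfsg.Spor.Fi22 = ⊤ :=
  commutator_top_of_simple (not_comm_of_card card22 (by norm_num))

/-- **`LS 3 26` for `Fi₂₂`** -/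
theorem ls22 : LS.{0, v, w} 3 26 Cfsg.Spor.Fi22 := by
  obtain ⟨e⟩ := Cfsg.Agent.S1686.result
  have hK : Fintype.card (ZMod 3) = 3 := ZMod.card 3
  have hs : IsSimpleGroup (Cfsg.POmega (ZMod 3) (Cfsg.quadFormOdd 3 (ZMod 3))) :=
    Cfsg.Agent.S0295.result (by rw [hK]; decide) 3 le_rfl
  have hc : Nat.card (Cfsg.POmega (ZMod 3) (Cfsg.quadFormOdd 3 (ZMod 3))) = 4585351680 := by
    have h1 := Cfsg.Agent.S0292.result hK (by decide) 3 le_rfl
    norm_num [Finset.prod_range_succ] at h1
    omega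
  have hfin : Finite (Cfsg.POmega (ZMod 3) (Cfsg.quadFormOdd 3 (ZMod 3))) :=
    Nat.finite_of_card_ne_zero (by rw [hc]; norm_num)
  exact ls_of_subgroup _ (commutator_top_of_simple (not_comm_of_card hc (by norm_num))) e (ls_o73 hK)

/-- **`LS 3 26` for `Fi₂₃`** -/
theorem ls23 : LS.{0, v, w} 3 26 Cfsg.Spor.Fi23 := by
  obtain ⟨e⟩ := Cfsg.Agent.S1688.result.2.1
  exact ls_of_cover _ comm22 e ls22

/-! ### the rows -/

open Cfsg Cfsg.Agent.H284 Cfsg.Agent.H419.EP Cfsg.Agent.H59.EP Cfsg.Agent.H762.EPV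

/-- the bound for the index of `A` (UB1 and UB2, three generators) -/
def UBT (cA i : ℕ) (l : List (ℕ × ℕ)) : Prop :=
  i ≤ 1 + ((l.map fun x => gal x.1 x.2).sum * (cA / 6) + cA ^ 2 / 60 + cA ^ 3 / 3600) * (2 * (cA / 6))

theorem card_aut_le (G : Type) [Group G] [Finite G] : Nat.card (MulAut G) ≤ Nat.card G * Nat.card (Cfsg.Out G) := by
  have h1 := (MulAut.conj : G →* MulAut G).range.card_mul_index
  rw [← h1]
  refine Nat.mul_le_mul ?_ le_rfl
  exact Nat.card_le_card_of_surjective (MulAut.conj : G →* MulAut G).rangeRestrict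
    (MulAut.conj : G →* MulAut G).rangeRestrict_surjective

section

variable {Q : Type} [Group Q] [Finite Q] {A : Subgroup Q} {Γ : Subgroup (MulAut Q)}

theorem cardA22 (h : HasSoc A Spor.Fi22) : Nat.card A = 64561751654400 ∨ Nat.card A = 129123503308800 := by
  have h1 := h.card_le.trans (card_aut_le _)
  rw [card22, Cfsg.Agent.S2079.result] at h1
  obtain ⟨k, hk⟩ := h.card_dvd
  rw [card22] at hk
  have h0 : 0 < Nat.card A := Nat.card_pos
  have hk2 : k = 1 ∨ k = 2 := by omega
  rcases hk2 with rfl | rfl <;> omega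

theorem cardA23 (h : HasSoc A Spor.Fi23) : Nat.card A = 4089470473293004800 := by
  have h1 := h.card_le.trans (card_aut_le _)
  rw [card23, Cfsg.Agent.S2080.result] at h1
  obtain ⟨k, hk⟩ := h.card_dvd
  rw [card23] at hk
  have h0 : 0 < Nat.card A := Nat.card_pos
  have hk2 : k = 1 := by omega
  subst hk2
  omega

theorem false_of_UBT {cA : ℕ} {l : List (ℕ × ℕ)} (hc : Nat.card A = cA) (h : UBT cA A.index l)
    (hn : (cA * (1 + ((l.map fun x => gal x.1 x.2).sum * (cA / 6) + cA ^ 2 / 60 + cA ^ 3 / 3600) * (2 * (cA / 6)))) <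
      2 ^ 322) (hQ : 2 ^ 325 ≤ 8 * Nat.card Q) : False := by
  have h1 := A.card_mul_index
  rw [hc] at h1
  have h2 : Nat.card Q < 2 ^ 322 := by
    rw [← h1]
    exact lt_of_le_of_lt (Nat.mul_le_mul_left _ h) hn
  have h3 : (2 : ℕ) ^ 3 * 2 ^ 322 ≤ 2 ^ 3 * Nat.card Q := le_trans (le_of_eq (pow_add 2 3 322).symm) hQ
  exact absurd (Nat.le_of_mul_le_mul_left h3 (by norm_num)) (not_le.2 h2)

end

variable {Q : Type} [Group Q] [Finite Q] {A : Subgroup Q} {Γ : Subgroup (MulAut Q)} {ι : Type} [Fintype ι]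
  [DecidableEq ι] {F : Type} [Field F] [Fintype F] {S P : Subgroup (Matrix.GeneralLinearGroup ι F)}

theorem dim22 (b : Big A Γ S P) (h : Spor.IsoFi22 (socle P)) : 26 ≤ Fintype.card ι :=
  le_card_of_two (r := 2) (s := 3) (by norm_num)
    ((Cfsg.Agent.H806.Ls.fi22_ls_two (by
      by_contra hcon
      push Not at hcon
      exact not_comm_of_card card22 (by norm_num) hcon)).mono (by norm_num)) ls22 b.core h

theorem dim23 (b : Big A Γ S P) (h : Spor.IsoFi23 (socle P)) : 26 ≤ Fintype.card ι :=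
  le_card_of_two (r := 2) (s := 3) (by norm_num)
    ((Cfsg.Agent.H806.Ls.fi23_ls_two (by
      by_contra hcon
      push Not at hcon
      exact not_comm_of_card card23 (by norm_num) hcon)).mono (by norm_num)) ls23 b.core h

theorem row22 (hg : TwoGen.{0}) : BigOf (fun L _ => Spor.IsoFi22 L) := by
  intro Q _ _ A Γ ι _ _ F _ _ S P b h
  have hd := dim22 b h
  obtain ⟨e⟩ := h
  have hsoc := b.hasSoc' e
  have hab := fun K h1 h2 h3 => hsoc.no_abelian simple22 (not_comm_of_card card22 (by norm_num)) (K := K) h1 h2 h3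
  have hQ := b.ord_two hd
  rcases cardA22 hsoc with hc | hc
  · have h1 : UBT _ _ _ := index_le_three hg b.simple b.ept hab (by rw [hc]; decide +kernel)
      [(2, 17), (3, 9), (5, 2), (7, 1), (11, 1), (13, 1)] (by decide +kernel) (by decide +kernel)
      (by rw [hc]; decide +kernel)
    rw [hc] at h1
    exact false_of_UBT hc h1 (by decide +kernel) hQ
  · have h1 : UBT _ _ _ := index_le_three hg b.simple b.ept hab (by rw [hc]; decide +kernel)
      [(2, 18), (3, 9), (5, 2), (7, 1), (11, 1), (13, 1)] (by decide +kernel) (by decide +kernel)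
      (by rw [hc]; decide +kernel)
    rw [hc] at h1
    exact false_of_UBT hc h1 (by decide +kernel) hQ

theorem row23 (hg : TwoGen.{0}) : BigOf (fun L _ => Spor.IsoFi23 L) := by
  intro Q _ _ A Γ ι _ _ F _ _ S P b h
  have hd := dim23 b h
  obtain ⟨e⟩ := h
  have hsoc := b.hasSoc' e
  have hab := fun K h1 h2 h3 => hsoc.no_abelian simple23 (not_comm_of_card card23 (by norm_num)) (K := K) h1 h2 h3
  have hc := cardA23 hsoc
  have h1 : UBT _ _ _ := index_le_three hg b.simple b.ept hab (by rw [hc]; decide +kernel)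
    [(2, 18), (3, 13), (5, 2), (7, 1), (11, 1), (13, 1), (17, 1), (23, 1)] (by decide +kernel) (by decide +kernel)
    (by rw [hc]; decide +kernel)
  rw [hc] at h1
  exact false_of_UBT hc h1 (by decide +kernel) (b.ord_two hd)

end Cfsg.Agent.H433.EP
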